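/-
Project Q16, job IDX: the index lemma.
-/
import Cfsg.Agent.Q16.Defs
import Cfsg.Agent.Inv.LenA

set_option autoImplicit false

namespace CL.Q16

open Cfsg Subgroup CL.Even CL.Grp CL.Loc CL.Ags

universe u

namespace IdxH

variable {G : Type u} [Group G] [Finite G]

omit [Finite G] in
theorem card_mul {A B : Subgroup G} (h : A ≤ B) : Nat.card A * A.relIndex B = Nat.card B := by
  rw [← (A.subgroupOf B).card_mul_index, relIndex, Nat.card_congr (subgroupOfEquivOfLe h).toEquiv]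

theorem card_le_two {T T0 : Subgroup G} {u : G} (h : ∀ t ∈ T, t ∈ T0 ∨ u * t ∈ T0) :
    Nat.card T ≤ 2 * Nat.card T0 := by
  have h1 : (T : Set G) ⊆ (T0 : Set G) ∪ (fun x => u⁻¹ * x) '' (T0 : Set G) := fun t ht =>
    (h t ht).imp id fun a => ⟨u * t, a, by simp⟩
  have h2 := (Set.ncard_le_ncard h1).trans (Set.ncard_union_le _ _)
  have h3 := Set.ncard_image_le (f := fun x => u⁻¹ * x) (s := (T0 : Set G))
  change (T : Set G).ncard ≤ 2 * (T0 : Set G).ncard
  omega

/-- a quasisimple group has no Sylow 2-subgroup with a central subgroup of index at most 2 -/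
theorem not_small {K A D : Subgroup G} (hK : IsQuasisimple K) (hA : IsSylowIn 2 A K) (hD : D ≤ 𝒞(K))
    (h2 : D.relIndex A ≤ 2) : False := by
  let f := QuotientGroup.mk' (center K)
  have h1 : IsSylowIn 2 ((A.subgroupOf K).map f) ⊤ := by
    have := syl_map f (isSylowIn_top hA.toSylow)
    rwa [map_top_of_surjective _ (QuotientGroup.mk'_surjective _)] at this
  obtain ⟨P, hP⟩ := isSylowIn_top_iff.1 h1
  have h3 : Nat.card ((A.subgroupOf K).map f) ≤ 2 := by
    rw [← relIndex_ker]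
    refine le_trans ?_ h2
    rw [← relIndex_subgroupOf hA.le]
    refine relIndex_le_of_le_left (fun x hx => ?_) FiniteIndex.index_ne_zero
    rw [QuotientGroup.ker_mk', mem_center_iff]
    exact fun y => Subtype.ext (comm_of_mem (hD hx) y.2)
  have h4 : IsCyclic (P : Subgroup (K ⧸ center K)) := by
    refine isCyclic_of_card_dvd_prime (p := 2) ?_
    rw [hP]
    have : 0 < Nat.card ((A.subgroupOf K).map f) := Nat.card_pos
    generalize Nat.card ((A.subgroupOf K).map f) = n at *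
    interval_cases n <;> simp
  have := CL.Inv.Len.isSolvable_of_isCyclic_sylow P h4
  have := hK.2
  exact IsQuasisimple.not_isMulCommutative_quotient hK ⟨⟨IsSimpleGroup.comm_iff_isSolvable.2 ‹_›⟩⟩

end IdxH

open IdxH in
theorem idx (h1 : PU.{u}) (h2 : CoreQ.{u}) : Idx.{u} := by
  intro G _ _ T L₁ L₂ z u h t it hc hL
  refine ⟨it, ?_⟩
  set T0 := T ⊓ 𝒩(L₁) with hT0
  have hT0t : T0 ≤ Ce t := fun x hx => mem_centralizer_singleton_iff.2 (comm_of_mem hc hx)
  have hLt : L₁ ≤ Ce t := fun x hx => mem_centralizer_singleton_iff.2 (comm_of_mem hL hx)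
  have hzL : z ∈ 𝒞(L₁) := mem_centralizer_iff.2 fun x hx => mem_centralizer_singleton_iff.1 (h.c1.le hx)
  have hz0 : z ∈ T0 := ⟨h.zT, cent_le_norm _ hzL⟩
  have hzt : Commute z t := mem_centralizer_singleton_iff.1 (hT0t hz0)
  have hT02 : IsPGroup 2 T0 := h.syl.isPGroup.to_le inf_le_left
  obtain ⟨P, hP, hTP⟩ := exists_isSylowIn_ge hT02 hT0t
  have hc1 : Nat.card P ≤ 2 * Nat.card T0 :=
    (h.syl.card_le hP.isPGroup le_top).trans (card_le_two (u := u) fun x hx =>
      (h.pair x hx).imp (fun a => ⟨hx, a⟩) fun a => ⟨mul_mem h.uT hx, a⟩)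
  have hr : T0.relIndex P ≤ 2 := by
    rw [← card_mul hTP, mul_comm 2] at hc1
    exact Nat.le_of_mul_le_mul_left hc1 Nat.card_pos
  obtain ⟨K, hK, hcase⟩ := h1 G L₁ z t it (h.gl.odd t it) h.iz.1 hzt h.c1 hLt
  have hA : IsSylowIn 2 (P ⊓ K) K := syl_inf_of_subnIn hK.1 hP
  have hDA : T0 ⊓ K ≤ P ⊓ K := inf_le_inf_right K hTP
  have hr2 : (T0 ⊓ K).relIndex (P ⊓ K) ≤ 2 := by
    have e : T0 ⊓ K = T0 ⊓ (P ⊓ K) := by rw [← inf_assoc, inf_eq_left.2 hTP]
    rw [e, inf_relIndex_right]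
    exact (relIndex_le_of_le_right inf_le_left FiniteIndex.index_ne_zero).trans hr
  have hDz : T0 ⊓ K ≤ Ce z := fun x hx => mem_centralizer_singleton_iff.2 (comm_of_mem h.zc hx.1.1)
  rcases hcase with ⟨hLK, hzK⟩ | ⟨hne, -⟩
  · have e := h2 G K L₁ (P ⊓ K) (T0 ⊓ K) z hK.2 (h.gl.lk t it K hK).1 (h.gl.lk t it K hK).2 h.iz.1 hzK
      (h.c1.of_le (le_inf hLK h.c1.le) inf_le_right) h.q1.na hA (le_inf hDA hDz)
      (inf_le_left.trans inf_le_right) (by
        rw [← card_mul hDA, mul_comm 2]; exact Nat.mul_le_mul_left _ hr2)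
    rw [e]; exact hK
  · have hK' : IsCompIn (cj z K) (Ce t) := hK.conj_smul_of_mem_normalizer (le_normalizer (hT0t hz0))
    have h3 : cj z K ≤ 𝒞(K) := le_cent_iff.2 ((hK'.eq_or_commutator_eq_bot hK).resolve_left hne)
    refine (not_small hK.2 hA (fun d hd => h3 ?_) hr2).elim
    have h4 := conj_mem_cj z hd.2
    rwa [← mem_centralizer_singleton_iff.1 (hDz hd), mul_inv_cancel_right] at h4

end CL.Q16
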