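/-
Project Q16: four-groups of `PSL₂(p)` are self-centralising in the automorphism group.
-/
import Cfsg.Agent.Q16.Defs
import Cfsg.Agent.GW.Cor2
import Cfsg.Agent.Known.GLAut3
import Cfsg.Agent.Known.GLLang

set_option autoImplicit false

namespace CL.Q16

open Cfsg Subgroup CL.Even CL.Grp CL.Loc CL.Ags CL.SL2 CL.Inv.SE

theorem naOdd2 : NAOdd2 := by
  intro F _ _ hp h5 a b ha hb hab hc α h1 h2
  haveI := Fact.mk hp
  obtain ⟨g, σ, hg⟩ := CL.GLn.aut_psl_two α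
  have hσ : Nat.card (F ≃+* F) = 1 := CL.GLn.card_ringAut (p := Fintype.card F) (pow_one _).symm
  haveI := (Nat.card_eq_one_iff_unique.mp hσ).1
  obtain rfl : σ = 1 := Subsingleton.elim _ _
  rw [map_one, mul_one, ← GW.Psl.pglAut_mk] at hg
  have h : CPair a b := ⟨ha.1, hb.1, hc.eq.symm, ha.2, hb.2, hab⟩
  have h2' : (2 : F) ≠ 0 := GW.Psl.two_ne_zero_of_odd (hp.odd_of_ne_two (by omega))
  obtain ⟨x, y, hq, hx, hy⟩ := exists_qpair_of_cpair h2'
    (h.map _ Matrix.ProjectiveSpecialLinearGroup.toPGL_injective) ⟨a, rfl⟩ ⟨b, rfl⟩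
  have := hq.mem_of_commute h2' (x := Matrix.ProjGenLinGroup.mk g)
    (by rw [hx, ← GW.Cor2.toPGL_pglAut, ← hg, h1]) (by rw [hy, ← GW.Cor2.toPGL_pglAut, ← hg, h2])
  rw [hx, hy, ← Set.image_pair, ← MonoidHom.map_closure] at this
  obtain ⟨k, hk, e⟩ := this
  exact ⟨k, h.mem_closure.mp hk, by rw [hg, ← e, GW.Psl.pglAut_toPGL]⟩

end CL.Q16
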