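/-
Project Q16: an involutory automorphism of `L₂(p)` whose fixed points have characteristic 2 is inner.
-/
import Cfsg.Agent.Q16.Defs
import Cfsg.Agent.GW.PslC
import Cfsg.Agent.GW.Cor2
import Cfsg.Agent.Known.GLAut4

set_option autoImplicit false

namespace CL.Q16

open Cfsg Subgroup CL.Even CL.Grp CL.Loc CL.Ags
open scoped MatrixGroups

universe u

namespace KO3

/-- A normal cyclic subgroup of odd order in a group of characteristic 2 is trivial. -/
theorem eq_one_of_norm {G : Type*} [Group G] {C : Subgroup G} (h : IsCharP 2 C) {c : G} (hc : c ∈ C)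
    (ho : Odd (orderOf c)) (hn : ∀ g ∈ C, g * c * g⁻¹ ∈ zpowers c) : c = 1 := by
  have co : (orderOf c).Coprime 2 := Nat.coprime_two_right.2 ho
  refine h.eq_one hc co (mem_centralizer_iff.2 fun y hy => ?_)
  have h1 : y * c * y⁻¹ * c⁻¹ ∈ zpowers c := mul_mem (hn y (core_le C hy)) (inv_mem (mem_zpowers c))
  have h2 : y * c * y⁻¹ * c⁻¹ ∈ pCoreOf 2 C := by
    have := mul_mem hy ((mem_normalizer_iff.1 (self_le_norm_core C hc) _).1 (inv_mem hy))
    simpa only [mul_assoc] using this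
  obtain ⟨k, hk⟩ := core_isP C ⟨_, h2⟩
  have h3 : orderOf (y * c * y⁻¹ * c⁻¹) ∣ 2 ^ k := orderOf_dvd_of_pow_eq_one (congrArg Subtype.val hk)
  have h4 := orderOf_eq_one_iff.1
    (Nat.eq_one_of_dvd_coprimes (co.pow_right k) (orderOf_dvd_of_mem_zpowers h1) h3)
  rw [mul_inv_eq_one, mul_inv_eq_iff_eq_mul] at h4
  exact h4

end KO3

open CL.GW.Psl CL.SL2 in
theorem naOdd3 : NAOdd3 := by
  intro F _ _ hp h5 _ α αα hC
  have : Fact (Fintype.card F).Prime := ⟨hp⟩
  have hodd : Odd (Fintype.card F) := hp.odd_of_ne_two (by omega)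
  obtain ⟨g, σ, e⟩ := CL.GLn.aut_psl_two α
  have h1 : Nat.card (F ≃+* F) = 1 := CL.GLn.card_ringAut (p := Fintype.card F) (pow_one _).symm
  obtain rfl : σ = 1 := (Nat.card_eq_one_iff_unique.1 h1).1.elim _ _
  rw [map_one, mul_one, ← pglAut_mk] at e
  generalize Matrix.ProjGenLinGroup.mk g = γ at e
  by_cases hγ : γ ∈ pslR F
  · obtain ⟨x, rfl⟩ := hγ
    exact ⟨x, by rw [e, pglAut_toPGL]⟩
  have ho : orderOf γ = 2 := orderOf_eq_prime (pglAut_injective (by rw [map_pow, ← e, pow_two, αα, map_one]))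
    fun k => hγ (k ▸ one_mem _)
  obtain ⟨ε, hε, h4⟩ := CL.GW.Cor2.exists_eps hodd
  obtain ⟨c, w, h, -, h2⟩ := exists_rot_pgl hodd (by omega) hε h4 ho
  have h3 := h2 hγ
  obtain ⟨c₀, rfl⟩ := h.c_mem
  have inj := Matrix.ProjectiveSpecialLinearGroup.toPGL_injective (n := Fin 2) (R := F)
  have fx : ∀ x, x ∈ fixA α ↔ Matrix.ProjectiveSpecialLinearGroup.toPGL x * γ =
      γ * Matrix.ProjectiveSpecialLinearGroup.toPGL x := fun x => by
    rw [mem_fixA, ← inj.eq_iff, e, CL.GW.Cor2.toPGL_pglAut, mul_inv_eq_iff_eq_mul, eq_comm]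
  rw [orderOf_injective _ inj] at h3
  have k := KO3.eq_one_of_norm hC ((fx c₀).2 h.cv) (by rw [Nat.odd_iff]; omega) fun y hy => by
    have := h.conj_mem_zpowers (g := Matrix.ProjectiveSpecialLinearGroup.toPGL y)
      ⟨⟨y, rfl⟩, mem_centralizer_singleton_iff.2 ((fx y).1 hy)⟩ (mem_zpowers _)
    rwa [← map_inv, ← map_mul, ← map_mul, mem_zpowers_map_iff inj] at this
  rw [k, orderOf_one] at h3
  omega

end CL.Q16
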