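/-
Project Q16, job NN: the normalisers of the two components coincide, and the derived facts.
-/
import Cfsg.Agent.Q16.Idx

set_option autoImplicit false

namespace CL.Q16

open Cfsg Subgroup CL.Even CL.Grp CL.Loc CL.Ags

universe u

namespace NNH

variable {G : Type u} [Group G] [Finite G] {T L₁ L₂ : Subgroup G} {z u : G} {r : ℕ}

/-- the prime of `Rk3` -/
structure W (r : ℕ) (L₁ L₂ : Subgroup G) : Prop where
  pr : r.Prime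
  ne : r ≠ 2
  d1 : r ∣ Nat.card L₁
  d2 : r ∣ Nat.card L₂
  no : ∀ x ∈ 𝒞(L₁), x ∈ 𝒞(L₂) → x ^ r = 1 → x = 1

omit [Finite G] in
theorem W.symm (w : W r L₁ L₂) : W r L₂ L₁ := ⟨w.pr, w.ne, w.d2, w.d1, fun x a b => w.no x b a⟩

theorem c12 (h : Cf T L₁ L₂ z u) : L₁ ≤ 𝒞(L₂) :=
  le_cent_iff.2 ((h.c1.eq_or_commutator_eq_bot h.c2).resolve_left h.ne)

theorem ex_ord {P : Subgroup G} (hr : r.Prime) (hd : r ∣ Nat.card P) : ∃ x ∈ P, orderOf x = r := by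
  have := Fact.mk hr
  obtain ⟨x, hx⟩ := exists_prime_orderOf_dvd_card' r hd
  exact ⟨x, x.2, by rw [← hx, orderOf_coe]⟩

omit [Finite G] in
theorem ne_one (hr : r.Prime) {x : G} (hx : orderOf x = r) : x ≠ 1 := fun e => by
  rw [e, orderOf_one] at hx; exact hr.one_lt.ne hx

theorem n12 (h : Cf1 T L₁ L₂ z u) (w : W r L₁ L₂) : 𝒩(L₁) ≤ 𝒩(L₂) := by
  intro g hg
  obtain ⟨a, ha, -, -, ia, -⟩ := h.q1.four
  obtain ⟨i, hi, ii, ic⟩ := exists_inv_cent (U := T ⊓ 𝒩(L₁)) (h.syl.isPGroup.to_le inf_le_left) inf_le_right ha ia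
  have h1 : IsCompIn L₂ 𝒞(L₁) := (h.i2 i ii ic (c12 h.toCf hi)).2.of_le (c12 h.toCf.symm)
    fun x hx => mem_centralizer_singleton_iff.2 (comm_of_mem hx hi).symm
  have h2 : IsCompIn (cj g L₂) 𝒞(L₁) := h1.conj_smul_of_mem_normalizer (norm_cent hg)
  rcases h2.eq_or_commutator_eq_bot h1 with e | e
  · exact cj_eq_iff_mem.1 e
  obtain ⟨x, hx, ox⟩ := ex_ord (P := cj g L₂) w.pr (by rw [card_cj]; exact w.d2)
  exact (ne_one w.pr ox (w.no x (h2.le hx) (le_cent_iff.2 e hx) (ox ▸ pow_orderOf_eq_one x))).elim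

theorem s0 (h : Cf T L₁ L₂ z u) (e : 𝒩(L₁) = 𝒩(L₂)) : IsSylowIn 2 (T ⊓ 𝒩(L₁)) 𝒩(L₁) := by
  obtain ⟨P, hP, hTP⟩ := exists_isSylowIn_ge (U := T ⊓ 𝒩(L₁)) (h.syl.isPGroup.to_le inf_le_left) inf_le_right
  by_cases q : P ≤ T ⊓ 𝒩(L₁)
  · rwa [le_antisymm hTP q]
  exfalso
  have h1 : 2 ≤ (T ⊓ 𝒩(L₁)).relIndex P := by
    have a : (T ⊓ 𝒩(L₁)).relIndex P ≠ 0 := FiniteIndex.index_ne_zero
    have b : (T ⊓ 𝒩(L₁)).relIndex P ≠ 1 := fun c => q (relIndex_eq_one.1 c)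
    omega
  have h2 : Nat.card T ≤ Nat.card P := by
    refine (IdxH.card_le_two (T0 := T ⊓ 𝒩(L₁)) (u := u) fun x hx =>
      (h.pair x hx).imp (fun a => ⟨hx, a⟩) fun a => ⟨mul_mem h.uT hx, a⟩).trans ?_
    rw [← IdxH.card_mul hTP, mul_comm 2]
    exact Nat.mul_le_mul_left _ h1
  have h3 : IsSylowIn 2 P ⊤ := h.syl.of_card_le hP.isPGroup le_top h2
  have hu : u ∈ 𝒩(𝒩(L₁)) := cj_eq_iff_mem.1 (by rw [cj_norm, h.e1, e])
  have hT : T ≤ 𝒩(𝒩(L₁)) := fun t ht => (h.pair t ht).elim (fun a => le_normalizer a)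
    fun a => (mul_mem_cancel_left hu).1 (le_normalizer a)
  obtain ⟨m, hm, em⟩ := (h3.of_le (hP.le.trans le_normalizer) le_top).exists_conj_eq (h.syl.of_le hT le_top)
  have h4 : T ≤ 𝒩(L₁) := em ▸ cj_le_of_le hP.le hm
  exact h.ne ((cj_eq (h4 h.uT)).symm.trans h.e1)

theorem pf (h : Cf T L₁ L₂ z u) (w : W r L₁ L₂) (e : 𝒩(L₁) = 𝒩(L₂)) (g : G) (hg : cj g L₁ ≤ 𝒩(L₁)) :
    cj g L₁ ≤ L₁ ⊔ L₂ := by
  have hq : IsQuasisimple (cj g L₁) := (h.c1.conj_smul g).2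
  have hp := IsQuasisimple.commutator_self hq
  have h1 : cj g L₁ ≤ L₁ ⊔ 𝒞(L₁) := hp.ge.trans ((commutator_mono hg hg).trans h.q1.out)
  have h2 : cj g L₁ ≤ L₂ ⊔ 𝒞(L₂) := hp.ge.trans ((commutator_mono (e ▸ hg) (e ▸ hg)).trans h.q2.out)
  obtain ⟨x, hx, ox⟩ := ex_ord (P := cj g L₁) w.pr (by rw [card_cj]; exact w.d1)
  obtain ⟨l1, hl1, c1, hc1, e1⟩ := (mem_sup_nl (cent_le_norm L₁)).1 (h1 hx)
  have h3 : c1 ∈ L₂ ⊔ 𝒞(L₂) := (mul_mem_cancel_left (mem_sup_right (c12 h hl1))).1 (e1 ▸ h2 hx)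
  obtain ⟨l2, hl2, v, hv, e2⟩ := (mem_sup_nl (cent_le_norm L₂)).1 h3
  have hv1 : v ∈ 𝒞(L₁) := (mul_mem_cancel_left (c12 h.symm hl2)).1 (e2 ▸ hc1)
  have hco : (orderOf x).Coprime (orderOf v) := by
    rw [ox, w.pr.coprime_iff_not_dvd]
    intro hd
    have o1 : orderOf (v ^ (orderOf v / r)) = r := orderOf_pow_orderOf_div (orderOf_pos v).ne' hd
    exact ne_one w.pr o1 (w.no _ (pow_mem hv1 _) (pow_mem hv _) (by
      conv_lhs => rw [← o1]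
      rw [o1, ← pow_mul, Nat.div_mul_cancel hd, pow_orderOf_eq_one]))
  have hcm : Commute (l1 * l2) v := ((cm_of hv1 hl1).mul_right (cm_of hv hl2)).symm
  have hx0 : x ∈ L₁ ⊔ L₂ := by
    refine mem_of_pow_mem_of_coprime hco ?_
    rw [← e1, ← e2, ← mul_assoc, hcm.mul_pow, pow_orderOf_eq_one, mul_one]
    exact pow_mem (mul_mem (mem_sup_left hl1) (mem_sup_right hl2)) _
  rcases IsQuasisimple.eq_or_commutator_eq_bot hq (N := cj g L₁ ⊓ (L₁ ⊔ L₂)) inf_le_left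
    (le_norm_inf le_normalizer (le_norm_sup hg (e ▸ hg))) with a | a
  · exact a.ge.trans inf_le_right
  have h5 : x ∈ cj g (L₁ ⊓ 𝒞(L₁)) := by
    rw [cj_inf, cj_cent]; exact ⟨hx, le_cent_iff.2 a ⟨hx, hx0⟩⟩
  refine (ne_one w.pr ox (eq_one_of_coprime_of_mem (isPGroup_cj h.q1.z2 g) ?_ h5)).elim
  rw [ox]; exact (Nat.coprime_primes w.pr Nat.prime_two).2 w.ne

theorem ce (h : Cf T L₁ L₂ z u) (w : W r L₁ L₂) (e : 𝒩(L₁) = 𝒩(L₂)) {y c : G} (hy : Yy L₁ y) (hc : Commute c y) :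
    c ∈ 𝒩(L₁) ∨ u * c ∈ 𝒩(L₁) := by
  have h1 : IsCompIn (cj c L₁) (Ce y) :=
    hy.2.conj_smul_of_mem_normalizer (le_normalizer (mem_centralizer_singleton_iff.2 hc))
  rcases h1.eq_or_commutator_eq_bot hy.2 with a | a
  · exact Or.inl (cj_eq_iff_mem.1 a)
  have h2 : cj c L₁ ≤ 𝒞(L₁) := le_cent_iff.2 a
  have h3 := pf h w e c (h2.trans (cent_le_norm _))
  have h4 : cj c L₁ ≤ L₂ ⊔ L₁ ⊓ 𝒞(L₁) := fun x hx => by
    obtain ⟨l1, hl1, l2, hl2, e1⟩ := (mem_sup_nr ((c12 h).trans (cent_le_norm _))).1 (h3 hx)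
    have : l1 ∈ 𝒞(L₁) := (mul_mem_cancel_right (c12 h.symm hl2)).1 (e1 ▸ h2 hx)
    rw [← e1]
    exact mul_mem (mem_sup_right ⟨hl1, this⟩) (mem_sup_left hl2)
  have h5 : ⁅L₂ ⊔ L₁ ⊓ 𝒞(L₁), L₂ ⊔ L₁ ⊓ 𝒞(L₁)⁆ ≤ ⁅L₂, L₂⁆ :=
    commutator_le_of_le_sup_centralizer le_sup_left (by
      rw [cent_sup]
      exact le_inf (inf_le_left.trans (c12 h)) (inf_le_right.trans (cent_mono inf_le_left))) le_rfl
  have h6 : cj c L₁ ≤ L₂ :=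
    h1.commutator_self.ge.trans ((commutator_mono h4 h4).trans (h5.trans h.c2.commutator_self.le))
  have h7 : cj c L₁ = L₂ := eq_of_le_of_card_ge h6 (by rw [← h.e1, card_cj, card_cj])
  exact Or.inr (cj_eq_iff_mem.1 (by rw [cj_mul, h7, h.e2]))

end NNH

open NNH in
theorem nn (h3 : Rk3.{u}) : NN.{u} := by
  intro G _ _ T L₁ L₂ z u h
  obtain ⟨r, hr, hr2, hd, hno⟩ := h3 G h.gl.qt L₁ h.q1.qs h.q1.z2
  have w : W r L₁ L₂ := ⟨hr, hr2, hd, by rw [← h.e1, card_cj]; exact hd, fun x a b =>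
    hno u x (by rw [h.e1]; exact c12 h.toCf.symm) a (by rw [h.e1]; exact b)⟩
  have e : 𝒩(L₁) = 𝒩(L₂) := le_antisymm (n12 h w) (n12 h.symm w.symm)
  exact ⟨h, e, s0 h.toCf e, pf h.toCf w e, fun y hy c hc =>
    hy.elim (fun a => ce h.toCf w e a hc) fun a => e ▸ ce h.toCf.symm w.symm e.symm a hc⟩

end CL.Q16
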