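/-
Project Q16: two commuting four-groups whose involutions are far from 2-central.
-/
import Cfsg.Agent.Q16.Idx
import Cfsg.Agent.Q16.Core0
import Cfsg.Agent.Spor.SelfCent

set_option autoImplicit false

namespace CL.Q16.TF

open Cfsg Subgroup CL.Even CL.Grp CL.Loc CL.Ags

variable {X : Type*} [Group X] [Finite X]

theorem card_sup {A B : Subgroup X} (hc : A ≤ 𝒞(B)) (hd : A ⊓ B = ⊥) :
    Nat.card (A ⊔ B : Subgroup X) = Nat.card A * Nat.card B := by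
  rw [← Nat.card_prod]
  refine (Nat.card_congr (Equiv.ofBijective (fun p : A × B =>
    (⟨p.1 * p.2, mul_mem (mem_sup_left p.1.2) (mem_sup_right p.2.2)⟩ : (A ⊔ B : Subgroup X))) ⟨?_, ?_⟩)).symm
  · rintro ⟨a, b⟩ ⟨a', b'⟩ h
    have e : (a : X) * b = a' * b' := congrArg Subtype.val h
    have e1 : (a' : X)⁻¹ * a = b' * (b : X)⁻¹ := by
      rw [inv_mul_eq_iff_eq_mul, ← mul_assoc, ← e, mul_inv_cancel_right]
    have h1 : (a' : X)⁻¹ * a ∈ A ⊓ B := ⟨A.mul_mem (A.inv_mem a'.2) a.2, e1 ▸ B.mul_mem b'.2 (B.inv_mem b.2)⟩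
    rw [hd, mem_bot] at h1
    have ea : (a : X) = a' := (inv_mul_eq_one.1 h1).symm
    rw [ea, mul_right_inj] at e
    exact Prod.ext (Subtype.ext ea) (Subtype.ext e)
  · rintro ⟨x, hx⟩
    obtain ⟨a, ha, b, hb, e⟩ := (Grp.mem_sup_of_le_normalizer (hc.trans (cent_le_norm B))).1 hx
    exact ⟨⟨⟨a, ha⟩, ⟨b, hb⟩⟩, Subtype.ext e⟩

theorem tf {A B : Subgroup X} (hA : Nat.card A = 4) (hB : Nat.card B = 4) (eA : A ≤ 𝒞(A)) (eB : B ≤ 𝒞(B))
    (hc : A ≤ 𝒞(B)) (hd : A ⊓ B = ⊥) (h32 : ∀ v, v ∈ A ∨ v ∈ B → v ≠ 1 → ¬ 32 ∣ Nat.card (Ce v))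
    (hj : ∀ a ∈ A, ∀ a' ∈ A, ∀ b ∈ B, ∀ b' ∈ B, a ≠ 1 → a' ≠ 1 → b ≠ 1 → b' ≠ 1 → IsConj (a * b) (a' * b'))
    (h64 : 64 ∣ Nat.card X) : False := by
  have := Fact.mk Nat.prime_two
  have hE : Nat.card (A ⊔ B : Subgroup X) = 16 := by rw [card_sup hc hd, hA, hB]
  have dec : ∀ x ∈ A ⊔ B, ∃ a ∈ A, ∃ b ∈ B, a * b = x := fun x hx =>
    (Grp.mem_sup_of_le_normalizer (hc.trans (cent_le_norm B))).1 hx
  have EE : A ⊔ B ≤ 𝒞(A ⊔ B) :=
    sup_le (cent_symm (sup_le eA (cent_symm hc))) (cent_symm (sup_le hc eB))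
  set E := A ⊔ B with hEd
  have E2 : IsPGroup 2 E := IsPGroup.of_card (n := 4) hE
  obtain ⟨P, hP, EP⟩ := exists_isSylowIn_ge (p := 2) E2 (le_top (a := E))
  have P2 := hP.isPGroup
  have cP : 64 ∣ Nat.card P := by
    rw [hP.card_eq_pow, card_top]
    exact pow_dvd_pow 2 ((Nat.prime_two.pow_dvd_iff_le_factorization Nat.card_pos.ne').1 (show 2 ^ 6 ∣ _ from h64))
  have pE : ∀ {v}, v ∈ A ∨ v ∈ B → v ∈ E := fun h => h.elim mem_sup_left mem_sup_right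
  -- centralisers in `P` of pure elements
  have cv : ∀ v, v ∈ A ∨ v ∈ B → v ≠ 1 → ∀ x ∈ P, Commute x v → x ∈ E := fun v hv v1 x hx c => by
    have le : E ≤ P ⊓ Ce v := le_inf EP fun y hy => Core0.mem_Ce.2 (cm_of (EE hy) (pE hv))
    obtain ⟨k, hk⟩ := IsPGroup.iff_card.1 (P2.to_inf_left (K := Ce v))
    have h1 : ¬ 5 ≤ k := fun h => h32 v hv v1
      ((show 32 ∣ Nat.card (P ⊓ Ce v : Subgroup X) from hk ▸ pow_dvd_pow 2 h).trans (card_dvd_of_le inf_le_right))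
    have : E = P ⊓ Ce v := eq_of_le_of_card_ge le (by
      rw [hk, hE]; exact Nat.pow_le_pow_right (n := 2) (i := k) (j := 4) (by norm_num) (by omega))
    exact this ▸ ⟨hx, Core0.mem_Ce.2 c⟩
  obtain ⟨a1, ha1, a2, ha2, n1, n2, n12⟩ : ∃ a ∈ A, ∃ b ∈ A, a ≠ 1 ∧ b ≠ 1 ∧ a * b ≠ 1 := by
    have h3 : 2 < (A : Set X).ncard := by rw [← Nat.card_coe_set_eq]; exact hA ▸ (by norm_num : 2 < 4)
    obtain ⟨a, ha, a1⟩ : ∃ a ∈ A, a ≠ 1 := by
      by_contra h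
      push Not at h
      have : (A : Set X).ncard ≤ ({1} : Set X).ncard := Set.ncard_le_ncard fun x hx => h x hx
      rw [Set.ncard_singleton] at this; omega
    obtain ⟨b, hb, b1⟩ : ∃ b ∈ A, b ∉ ({1, a⁻¹} : Set X) := by
      by_contra h
      push Not at h
      have : (A : Set X).ncard ≤ ({1, a⁻¹} : Set X).ncard := Set.ncard_le_ncard fun x hx => h x hx
      have := Set.ncard_insert_le (1 : X) {a⁻¹}
      rw [Set.ncard_singleton] at this; omega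
    exact ⟨a, ha, b, hb, a1, fun e => b1 (.inl e), fun e => b1 (.inr (eq_inv_of_mul_eq_one_right e))⟩
  -- a central element of `P` is mixed
  obtain ⟨w, hw, w1⟩ := (ne_bot_iff_exists_ne_one.1 (inf_cent_ne_bot P2 P2 le_normalizer (by
    rintro rfl; rw [card_bot] at cP; omega))).imp fun w h => And.intro w.2 h
  have w1' : (w : X) ≠ 1 := fun e => w1 (Subtype.ext e)
  have big : 32 ∣ Nat.card (Ce (w : X)) := ((by norm_num : 32 ∣ 64).trans cP).trans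
    (card_dvd_of_le fun y hy => Core0.mem_Ce.2 (cm_of hw.2 hy).symm)
  obtain ⟨a0, ha0, b0, hb0, e0⟩ := dec w (cv a1 (.inl ha1) n1 w hw.1 (cm_of hw.2 (EP (mem_sup_left ha1))))
  have a01 : a0 ≠ 1 := by
    rintro rfl
    rw [one_mul] at e0
    exact h32 w (.inr (e0 ▸ hb0)) w1' big
  have b01 : b0 ≠ 1 := by
    rintro rfl
    rw [mul_one] at e0
    exact h32 w (.inl (e0 ▸ ha0)) w1' big
  -- conjugates of pure elements inside `E` are pure
  have pure : ∀ v, v ∈ A ∨ v ∈ B → ∀ g : X, g * v * g⁻¹ ∈ E → g * v * g⁻¹ ∈ A ∨ g * v * g⁻¹ ∈ B := fun v hv g hg => by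
    obtain ⟨a, ha, b, hb, e⟩ := dec _ hg
    by_cases a1 : a = 1
    · rw [a1, one_mul] at e; exact .inr (e ▸ hb)
    by_cases b1 : b = 1
    · rw [b1, mul_one] at e; exact .inl (e ▸ ha)
    by_cases v1 : v = 1
    · rw [v1, mul_one, mul_inv_cancel]; exact .inl (one_mem _)
    refine absurd ?_ (h32 v hv v1)
    have c := (isConj_iff.2 ⟨g, rfl⟩ : IsConj v (g * v * g⁻¹)).trans (e ▸ e0 ▸ hj a ha a0 ha0 b hb b0 hb0 a1 a01 b1 b01)
    rw [CL.Spor.card_centralizer_eq_of_isConj c]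
    exact big
  -- elements of `N_P(E)` outside `E` do not normalise `A` or `B`
  have nfix : ∀ V : Subgroup X, V = A ∨ V = B → ∀ n ∈ P, (∀ v ∈ V, n * v * n⁻¹ ∈ V) → n ∈ E := fun V hV n hn h => by
    have hVE : ∀ v ∈ V, v ∈ A ∨ v ∈ B := fun v hv => hV.elim (fun e => .inl (e ▸ hv)) fun e => .inr (e ▸ hv)
    have cV : Nat.card V = 4 := hV.elim (fun e => e ▸ hA) fun e => e ▸ hB
    have nV : n ∈ 𝒩(V) := mem_norm_of_cj_le (by rintro _ ⟨v, hv, rfl⟩; exact h v hv)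
    obtain ⟨v, v1⟩ := ne_bot_iff_exists_ne_one.1 (inf_cent_ne_bot (IsPGroup.of_card (n := 2) cV)
      (P2.to_le (zpowers_le.2 hn)) (zpowers_le.2 nV) (by rintro rfl; rw [card_bot] at cV; omega))
    exact cv v (hVE v v.2.1) (fun e => v1 (Subtype.ext e)) n hn (cm_of v.2.2 (mem_zpowers n)).symm
  have split : ∀ V : Subgroup X, V = A ∨ V = B → ∀ n ∈ 𝒩(E),
      (∀ v ∈ V, n * v * n⁻¹ ∈ A) ∨ ∀ v ∈ V, n * v * n⁻¹ ∈ B := fun V hV n hn => by
    have hVE : ∀ v ∈ V, v ∈ A ∨ v ∈ B := fun v hv => hV.elim (fun e => .inl (e ▸ hv)) fun e => .inr (e ▸ hv)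
    have pu : ∀ v ∈ V, n * v * n⁻¹ ∈ A ∨ n * v * n⁻¹ ∈ B := fun v hv =>
      pure v (hVE v hv) n ((mem_normalizer_iff.1 hn v).1 (pE (hVE v hv)))
    by_contra h
    push Not at h
    obtain ⟨⟨x, hx, xA⟩, y, hy, yB⟩ := h
    have xB := (pu x hx).resolve_left xA
    have yA := (pu y hy).resolve_right yB
    have e : n * (x * y) * n⁻¹ = n * x * n⁻¹ * (n * y * n⁻¹) := by group
    rcases pu _ (mul_mem hx hy) with h | h
    · exact xA ((mul_mem_cancel_right yA).1 (e ▸ h))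
    · exact yB ((mul_mem_cancel_left xB).1 (e ▸ h))
  have two : ∀ n ∈ P ⊓ 𝒩(E), ∀ m ∈ P ⊓ 𝒩(E), n ∉ E → m ∉ E → n * m ∈ E := fun n hn m hm nE mE => by
    have h1 := (split A (.inl rfl) m hm.2).resolve_left fun h => mE (nfix A (.inl rfl) m hm.1 h)
    have h2 := (split B (.inr rfl) n hn.2).resolve_right fun h => nE (nfix B (.inr rfl) n hn.1 h)
    refine nfix A (.inl rfl) _ (mul_mem hn.1 hm.1) fun v hv => ?_
    have := h2 _ (h1 v hv)
    rwa [show n * (m * v * m⁻¹) * n⁻¹ = n * m * v * (n * m)⁻¹ by group] at this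
  have lt : P ⊓ 𝒩(E) < P := lt_of_le_of_ne inf_le_left fun e => by
    have hle : Nat.card P ≤ 2 * Nat.card E := by
      by_cases h : P ≤ E
      · have := card_le_of_le h; omega
      · obtain ⟨n, hn, nE⟩ := SetLike.not_le_iff_exists.1 h
        exact IdxH.card_le_two (u := n) fun t ht => (em (t ∈ E)).imp_right fun tE =>
          two n (e.symm ▸ hn) t (e.symm ▸ ht) nE tE
    have := Nat.le_of_dvd Nat.card_pos cP
    omega
  obtain ⟨g, hg, gN⟩ := SetLike.exists_of_lt (lt_inf_normalizer_of_isPGroup P2 lt)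
  have EN : E ≤ P ⊓ 𝒩(E) := le_inf EP le_normalizer
  have inN : ∀ x ∈ E, g * x * g⁻¹ ∈ P ⊓ 𝒩(E) := fun x hx => (mem_normalizer_iff.1 hg.2 x).1 (EN hx)
  have out : ∀ a ∈ A, a ≠ 1 → g * a * g⁻¹ ∉ E := fun a ha a1 h => by
    refine gN ⟨hg.1, mem_norm_of_cj_le ?_⟩
    rintro _ ⟨x, hx, rfl⟩
    refine cv _ (pure a (.inl ha) g h) (fun e => a1 ?_) _ (inN x hx).1 ?_
    · rw [← mul_right_inj g, ← mul_left_inj g⁻¹, e]; group
    · exact (cm_of (EE hx) (mem_sup_left ha)).map (MulAut.conj g)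
  refine out _ (mul_mem ha1 ha2) n12 ?_
  rw [show g * (a1 * a2) * g⁻¹ = g * a1 * g⁻¹ * (g * a2 * g⁻¹) by group]
  exact two _ (inN _ (mem_sup_left ha1)) _ (inN _ (mem_sup_left ha2)) (out _ ha1 n1) (out _ ha2 n2)

end CL.Q16.TF
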